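import Groth.Agent.Lib.Stein.FibrationBase
import Groth.Agent.Lib.IdealModSec.Basic
import Groth.Agent.Lib.QCoh.Killed
import Groth.Agent.Lib.Ample.RelAmple
import Groth.Prelude.Def_Pi1

/-!
# Relatively generated ideals supported over a point
-/

set_option autoImplicit false
set_option linter.style.haveILetI false
set_option backward.isDefEq.respectTransparency false
set_option maxHeartbeats 1000000

universe u

open CategoryTheory CategoryTheory.Limits AlgebraicGeometry Opposite TopologicalSpace
open GrothLib.IdealModSec (val)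
open GrothLib.InvExt (mres fres)

noncomputable section

namespace GrothLib.ExcComap29

variable {X Y : Scheme.{u}}

theorem not_isUnit_germ_of_app_eq_zero (V : Y.IdealSheafData) {W : Y.Opens} (y : Y) (hy : y ∈ W)
    (hys : y ∈ V.support) {s : Γ(Y, W)} (hs : V.subschemeι.app W s = 0) :
    ¬ IsUnit (Y.presheaf.germ W y hy s) := by
  obtain ⟨z, rfl⟩ : y ∈ Set.range V.subschemeι := by
    rw [V.range_subschemeι]; exact hys
  intro hu
  have h1 := hu.map (V.subschemeι.stalkMap z).hom
  rw [Scheme.Hom.germ_stalkMap_apply, hs, map_zero] at h1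
  exact not_isUnit_zero h1

theorem le_comap_vanishingIdeal [IsIntegral X] (hnorm : Pi1.IsNormalScheme X) [IsIntegral Y]
    (f : Y ⟶ X) [IsProper f] (O : X.Opens) (hO : genericPoint X ∈ O) [IsIso (f ∣_ O)]
    (P : X) (hPc : IsClosed ({P} : Set X)) (V : Y.IdealSheafData) (hPV : P ∈ f.base '' (V.support : Set Y))
    (hfree : Epi ((Scheme.Modules.pullbackPushforwardAdjunction f).counit.app (ClSub.idealMod V))) :
    V ≤ (Scheme.IdealSheafData.vanishingIdeal ⟨{P}, hPc⟩).comap f := by
  have hdom : f.base (genericPoint Y) = genericPoint X := by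
    obtain ⟨z, hz⟩ := (inferInstance : Surjective (f ∣_ O)).surj ⟨genericPoint X, hO⟩
    have h1 : f.base z.1 = genericPoint X := (congrArg (fun k => k.base z) (morphismRestrict_ι f O)).symm.trans (congrArg Subtype.val hz)
    refine Inseparable.eq (Specializes.antisymm ?_ (genericPoint_specializes _))
    rw [← h1]
    exact (genericPoint_specializes z.1).map f.continuous
  have hmem : genericPoint Y ∈ f ⁻¹ᵁ O := show f.base (genericPoint Y) ∈ O from hdom ▸ hO
  haveI : IsIso (f.stalkMap (genericPoint Y)) :=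
    ((MorphismProperty.isomorphisms CommRingCat).arrow_mk_iso_iff
      (morphismRestrictStalkMap f O ⟨genericPoint Y, hmem⟩)).1
        (inferInstanceAs (IsIso ((f ∣_ O).stalkMap ⟨genericPoint Y, hmem⟩)))
  have hsp : f.base (genericPoint Y) ⤳ genericPoint X := hdom ▸ specializes_rfl
  haveI : IsIso (X.presheaf.stalkSpecializes hsp) := by
    revert hsp
    rw [hdom]
    intro hsp
    simp only [TopCat.Presheaf.stalkSpecializes_refl]
    infer_instance
  have happ : ∀ U : X.Opens, IsIso (f.app U) := fun U => by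
    refine Stein.isIso_app_of_normal f hsp (fun y => (hnorm y).2) (fun x _ => ?_) U
    exact (ConcreteCategory.bijective_of_isIso (X.presheaf.stalkSpecializes hsp ≫ f.stalkMap _)).2 x
  let J := (Scheme.IdealSheafData.vanishingIdeal ⟨{P}, hPc⟩).comap f
  suffices h : ClSub.idealModι V ≫ ClSub.toSubscheme J = 0 by
    intro U s hs
    obtain ⟨k, rfl⟩ := IdealModSec.exists_val_eq V U hs
    rw [← J.ker_subschemeι_app U]
    exact congrArg (fun g : ClSub.idealMod V ⟶ ClSub.quotMod J => g.app U.1 k) h
  let h := ClSub.idealModι V ≫ ClSub.toSubscheme J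
  have hpush : (Scheme.Modules.pushforward f).map h = 0 := by
    refine Scheme.Modules.hom_ext _ _ fun U => ?_
    ext (t : Γ(ClSub.idealMod V, f ⁻¹ᵁ U))
    show h.app (f ⁻¹ᵁ U) t = 0
    refine Ample.meq_of_cover _ (fun U' : {U' : X.affineOpens // U'.1 ≤ U} => f ⁻¹ᵁ U'.1.1)
      (fun U' => f.preimage_mono U'.2) ?_ fun U' => ?_
    · intro y hy
      obtain ⟨U', hyU', hU'⟩ := BlowUp.exists_affine_mem_le (show f y ∈ U from hy)
      exact Opens.mem_iSup.2 ⟨⟨U', hU'⟩, hyU'⟩
    rw [← Ample.app_mres]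
    refine Eq.trans ?_ (map_zero _).symm
    generalize mres (ClSub.idealMod V) (f.preimage_mono U'.2) t = t'
    obtain ⟨⟨U, hU⟩, -⟩ := U'
    show J.subschemeι.app (f ⁻¹ᵁ U) (val V (f ⁻¹ᵁ U) t') = 0
    haveI := happ U
    obtain ⟨a, ha⟩ := (ConcreteCategory.bijective_of_isIso (f.app U)).2 (val V (f ⁻¹ᵁ U) t')
    have haI : a ∈ (Scheme.IdealSheafData.vanishingIdeal ⟨{P}, hPc⟩).ideal ⟨U, hU⟩ := by
      refine (QCoh.mem_vanishingIdeal_iff _ ⟨U, hU⟩ a).2 fun x hxU hxP hxb => ?_
      obtain rfl : x = P := hxP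
      obtain ⟨y, hys, hy⟩ := hPV
      subst hy
      refine not_isUnit_germ_of_app_eq_zero V y hxU hys (IdealModSec.app_val V _ t') ?_
      rw [← ha, ← Scheme.Hom.germ_stalkMap_apply f U y hxU]
      exact ((X.mem_basicOpen _ _ _).1 hxb).map _
    have h1 := (Scheme.IdealSheafData.le_map_comap (J := Scheme.IdealSheafData.vanishingIdeal ⟨{P}, hPc⟩) (f := f))
      ⟨U, hU⟩ haI
    rw [Scheme.IdealSheafData.map, Scheme.Hom.ker_apply, RingHom.mem_ker, Scheme.Hom.comp_app,
      CommRingCat.comp_apply] at h1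
    rw [← ha]
    exact h1
  have h2 : (Scheme.Modules.pullbackPushforwardAdjunction f).counit.app (ClSub.idealMod V) ≫ h = 0 := by
    have h3 := (Scheme.Modules.pullbackPushforwardAdjunction f).counit_naturality h
    rw [← h3, hpush]
    simp
  exact (cancel_epi _).1 (h2.trans comp_zero.symm)

end GrothLib.ExcComap29
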